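import Mathlib

/-!
# The free Picard category on a symmetric monoidal category
-/

set_option autoImplicit false
universe v u

open CategoryTheory MonoidalCategory

namespace Groth.Agent.Picardification

/-- Formal words in objects of `A`, tensor products and inverses. -/
inductive Obj (A : Type u) : Type u
  | unit : Obj A
  | gen (a : A) : Obj A
  | tensor (X Y : Obj A) : Obj A
  | inv (X : Obj A) : Obj A

variable {A : Type u} [Category.{v} A] [MonoidalCategory A] [SymmetricCategory A]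

/-- Formal morphisms. -/
inductive Pre : Obj A → Obj A → Type (max u v)
  | id (X : Obj A) : Pre X X
  | comp {X Y Z : Obj A} (f : Pre X Y) (g : Pre Y Z) : Pre X Z
  | symm {X Y : Obj A} (f : Pre X Y) : Pre Y X
  | whiskerLeft (X : Obj A) {Y Z : Obj A} (f : Pre Y Z) : Pre (.tensor X Y) (.tensor X Z)
  | whiskerRight {X Y : Obj A} (f : Pre X Y) (Z : Obj A) : Pre (.tensor X Z) (.tensor Y Z)
  | assoc (X Y Z : Obj A) : Pre (.tensor (.tensor X Y) Z) (.tensor X (.tensor Y Z))
  | leftUnitor (X : Obj A) : Pre (.tensor .unit X) X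
  | rightUnitor (X : Obj A) : Pre (.tensor X .unit) X
  | braiding (X Y : Obj A) : Pre (.tensor X Y) (.tensor Y X)
  | counit (X : Obj A) : Pre (.tensor X (.inv X)) .unit
  | map {a b : A} (f : a ⟶ b) : Pre (.gen a) (.gen b)
  | ε : Pre .unit (.gen (𝟙_ A))
  | μ (a b : A) : Pre (.tensor (.gen a) (.gen b)) (.gen (a ⊗ b))

open Pre in
/-- The congruence of the axioms. -/
inductive Rel : ∀ {X Y : Obj A}, Pre X Y → Pre X Y → Prop
  | refl {X Y : Obj A} (f : Pre X Y) : Rel f f
  | symm' {X Y : Obj A} {f g : Pre X Y} : Rel f g → Rel g f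
  | trans {X Y : Obj A} {f g h : Pre X Y} : Rel f g → Rel g h → Rel f h
  | comp_congr {X Y Z : Obj A} {f f' : Pre X Y} {g g' : Pre Y Z} :
      Rel f f' → Rel g g' → Rel (comp f g) (comp f' g')
  | symm_congr {X Y : Obj A} {f f' : Pre X Y} : Rel f f' → Rel (symm f) (symm f')
  | whiskerLeft_congr (X : Obj A) {Y Z : Obj A} {f f' : Pre Y Z} :
      Rel f f' → Rel (whiskerLeft X f) (whiskerLeft X f')
  | whiskerRight_congr {X Y : Obj A} {f f' : Pre X Y} (Z : Obj A) :
      Rel f f' → Rel (whiskerRight f Z) (whiskerRight f' Z)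
  | id_comp {X Y : Obj A} (f : Pre X Y) : Rel (comp (id X) f) f
  | comp_id {X Y : Obj A} (f : Pre X Y) : Rel (comp f (id Y)) f
  | comp_assoc {X Y Z W : Obj A} (f : Pre X Y) (g : Pre Y Z) (h : Pre Z W) :
      Rel (comp (comp f g) h) (comp f (comp g h))
  | comp_symm {X Y : Obj A} (f : Pre X Y) : Rel (comp f (symm f)) (id X)
  | symm_comp {X Y : Obj A} (f : Pre X Y) : Rel (comp (symm f) f) (id Y)
  | whiskerLeft_id (X Y : Obj A) : Rel (whiskerLeft X (id Y)) (id (.tensor X Y))
  | id_whiskerRight (X Y : Obj A) : Rel (whiskerRight (id X) Y) (id (.tensor X Y))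
  | whiskerLeft_comp (X : Obj A) {Y Z W : Obj A} (f : Pre Y Z) (g : Pre Z W) :
      Rel (whiskerLeft X (comp f g)) (comp (whiskerLeft X f) (whiskerLeft X g))
  | comp_whiskerRight {X Y Z : Obj A} (f : Pre X Y) (g : Pre Y Z) (W : Obj A) :
      Rel (whiskerRight (comp f g) W) (comp (whiskerRight f W) (whiskerRight g W))
  | exchange {W X Y Z : Obj A} (f : Pre W X) (g : Pre Y Z) :
      Rel (comp (whiskerLeft W g) (whiskerRight f Z)) (comp (whiskerRight f Y) (whiskerLeft X g))
  | assoc_natural {X₁ X₂ X₃ Y₁ Y₂ Y₃ : Obj A} (f₁ : Pre X₁ Y₁) (f₂ : Pre X₂ Y₂) (f₃ : Pre X₃ Y₃) :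
      Rel (comp (comp (whiskerRight (comp (whiskerRight f₁ X₂) (whiskerLeft Y₁ f₂)) X₃)
          (whiskerLeft (.tensor Y₁ Y₂) f₃)) (assoc Y₁ Y₂ Y₃))
        (comp (assoc X₁ X₂ X₃) (comp (whiskerRight f₁ (.tensor X₂ X₃))
          (whiskerLeft Y₁ (comp (whiskerRight f₂ X₃) (whiskerLeft Y₂ f₃)))))
  | leftUnitor_natural {X Y : Obj A} (f : Pre X Y) :
      Rel (comp (whiskerLeft .unit f) (leftUnitor Y)) (comp (leftUnitor X) f)
  | rightUnitor_natural {X Y : Obj A} (f : Pre X Y) :
      Rel (comp (whiskerRight f .unit) (rightUnitor Y)) (comp (rightUnitor X) f)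
  | pentagon (W X Y Z : Obj A) :
      Rel (comp (whiskerRight (assoc W X Y) Z) (comp (assoc W (.tensor X Y) Z) (whiskerLeft W (assoc X Y Z))))
        (comp (assoc (.tensor W X) Y Z) (assoc W X (.tensor Y Z)))
  | triangle (X Y : Obj A) :
      Rel (comp (assoc X .unit Y) (whiskerLeft X (leftUnitor Y))) (whiskerRight (rightUnitor X) Y)
  | braiding_natural_right (X : Obj A) {Y Z : Obj A} (f : Pre Y Z) :
      Rel (comp (whiskerLeft X f) (braiding X Z)) (comp (braiding X Y) (whiskerRight f X))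
  | braiding_natural_left {X Y : Obj A} (f : Pre X Y) (Z : Obj A) :
      Rel (comp (whiskerRight f Z) (braiding Y Z)) (comp (braiding X Z) (whiskerLeft Z f))
  | hexagon_forward (X Y Z : Obj A) :
      Rel (comp (assoc X Y Z) (comp (braiding X (.tensor Y Z)) (assoc Y Z X)))
        (comp (whiskerRight (braiding X Y) Z) (comp (assoc Y X Z) (whiskerLeft Y (braiding X Z))))
  | hexagon_reverse (X Y Z : Obj A) :
      Rel (comp (symm (assoc X Y Z)) (comp (braiding (.tensor X Y) Z) (symm (assoc Z X Y))))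
        (comp (whiskerLeft X (braiding Y Z)) (comp (symm (assoc X Z Y)) (whiskerRight (braiding X Z) Y)))
  | symmetry (X Y : Obj A) : Rel (comp (braiding X Y) (braiding Y X)) (id (.tensor X Y))
  | map_id (a : A) : Rel (map (𝟙 a)) (id (.gen a))
  | map_comp {a b c : A} (f : a ⟶ b) (g : b ⟶ c) : Rel (map (f ≫ g)) (comp (map f) (map g))
  | μ_natural_left {a b : A} (f : a ⟶ b) (c : A) :
      Rel (comp (whiskerRight (map f) (.gen c)) (μ b c)) (comp (μ a c) (map (f ▷ c)))
  | μ_natural_right (c : A) {a b : A} (f : a ⟶ b) :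
      Rel (comp (whiskerLeft (.gen c) (map f)) (μ c b)) (comp (μ c a) (map (c ◁ f)))
  | associativity (a b c : A) :
      Rel (comp (whiskerRight (μ a b) (.gen c)) (comp (μ (a ⊗ b) c) (map (α_ a b c).hom)))
        (comp (assoc (.gen a) (.gen b) (.gen c)) (comp (whiskerLeft (.gen a) (μ b c)) (μ a (b ⊗ c))))
  | left_unitality (a : A) :
      Rel (leftUnitor (.gen a)) (comp (whiskerRight ε (.gen a)) (comp (μ (𝟙_ A) a) (map (λ_ a).hom)))
  | right_unitality (a : A) :
      Rel (rightUnitor (.gen a)) (comp (whiskerLeft (.gen a) ε) (comp (μ a (𝟙_ A)) (map (ρ_ a).hom)))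
  | μ_braided (a b : A) :
      Rel (comp (μ a b) (map (β_ a b).hom)) (comp (braiding (.gen a) (.gen b)) (μ b a))

/-- The congruence as a setoid. -/
instance setoid (X Y : Obj A) : Setoid (Pre X Y) :=
  ⟨Rel, Rel.refl, Rel.symm', Rel.trans⟩

instance category : Category.{max u v} (Obj A) where
  Hom X Y := Quotient (setoid X Y)
  id X := ⟦Pre.id X⟧
  comp := Quotient.map₂ Pre.comp fun _ _ h _ _ h' => Rel.comp_congr h h'
  id_comp := fun f => Quotient.inductionOn f fun f => Quotient.sound (Rel.id_comp f)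
  comp_id := fun f => Quotient.inductionOn f fun f => Quotient.sound (Rel.comp_id f)
  assoc := fun f g h => Quotient.inductionOn₃ f g h fun f g h => Quotient.sound (Rel.comp_assoc f g h)

/-- The class of a formal morphism. -/
def mk {X Y : Obj A} (f : Pre X Y) : X ⟶ Y := ⟦f⟧

lemma mk_surjective {X Y : Obj A} (f : X ⟶ Y) : ∃ g, mk g = f :=
  Quotient.inductionOn f fun g => ⟨g, rfl⟩

@[simp]
lemma mk_id (X : Obj A) : mk (Pre.id X) = 𝟙 X := rfl

@[simp]
lemma mk_comp {X Y Z : Obj A} (f : Pre X Y) (g : Pre Y Z) : mk (Pre.comp f g) = mk f ≫ mk g := rfl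

/-- Every formal morphism is invertible. -/
def isoMk {X Y : Obj A} (f : Pre X Y) : X ≅ Y where
  hom := mk f
  inv := mk (Pre.symm f)
  hom_inv_id := Quotient.sound (Rel.comp_symm f)
  inv_hom_id := Quotient.sound (Rel.symm_comp f)

instance isGroupoid : IsGroupoid (Obj A) where
  all_isIso f := by
    obtain ⟨g, rfl⟩ := mk_surjective f
    exact (isoMk g).isIso_hom

instance monoidalStruct : MonoidalCategoryStruct (Obj A) where
  tensorObj := Obj.tensor
  tensorUnit := Obj.unit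
  whiskerLeft X _ _ f := Quotient.map (Pre.whiskerLeft X) (fun _ _ h => Rel.whiskerLeft_congr X h) f
  whiskerRight f Z :=
    Quotient.map (fun g => Pre.whiskerRight g Z) (fun _ _ h => Rel.whiskerRight_congr Z h) f
  tensorHom {_ Y₁ X₂ _} f g :=
    Quotient.map (fun h => Pre.whiskerRight h X₂) (fun _ _ h => Rel.whiskerRight_congr X₂ h) f ≫
      Quotient.map (Pre.whiskerLeft Y₁) (fun _ _ h => Rel.whiskerLeft_congr Y₁ h) g
  associator X Y Z := isoMk (Pre.assoc X Y Z)
  leftUnitor X := isoMk (Pre.leftUnitor X)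
  rightUnitor X := isoMk (Pre.rightUnitor X)

@[simp]
lemma mk_whiskerLeft (X : Obj A) {Y Z : Obj A} (f : Pre Y Z) :
    mk (Pre.whiskerLeft X f) = X ◁ mk f := rfl

@[simp]
lemma mk_whiskerRight {X Y : Obj A} (f : Pre X Y) (Z : Obj A) :
    mk (Pre.whiskerRight f Z) = mk f ▷ Z := rfl

instance monoidal : MonoidalCategory (Obj A) where
  tensorHom_def f g := rfl
  id_tensorHom_id X Y := by
    change (Pre.id X |> mk) ▷ Y ≫ X ◁ mk (Pre.id Y) = _
    rw [← mk_whiskerRight, ← mk_whiskerLeft, show mk (Pre.whiskerRight (Pre.id X) Y) = 𝟙 (X ⊗ Y) from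
      Quotient.sound (Rel.id_whiskerRight X Y)]
    exact (Category.id_comp _).trans (Quotient.sound (Rel.whiskerLeft_id X Y))
  tensorHom_comp_tensorHom {X₁ Y₁ Z₁ X₂ Y₂ Z₂} f₁ f₂ g₁ g₂ := by
    obtain ⟨f₁, rfl⟩ := mk_surjective f₁
    obtain ⟨f₂, rfl⟩ := mk_surjective f₂
    obtain ⟨g₁, rfl⟩ := mk_surjective g₁
    obtain ⟨g₂, rfl⟩ := mk_surjective g₂
    change (mk f₁ ▷ X₂ ≫ Y₁ ◁ mk f₂) ≫ (mk g₁ ▷ Y₂ ≫ Z₁ ◁ mk g₂) =
      (mk f₁ ≫ mk g₁) ▷ X₂ ≫ Z₁ ◁ (mk f₂ ≫ mk g₂)
    have h₁ : (mk f₁ ≫ mk g₁) ▷ X₂ = mk f₁ ▷ X₂ ≫ mk g₁ ▷ X₂ :=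
      Quotient.sound (Rel.comp_whiskerRight f₁ g₁ X₂)
    have h₂ : Z₁ ◁ (mk f₂ ≫ mk g₂) = Z₁ ◁ mk f₂ ≫ Z₁ ◁ mk g₂ :=
      Quotient.sound (Rel.whiskerLeft_comp Z₁ f₂ g₂)
    have h₃ : Y₁ ◁ mk f₂ ≫ mk g₁ ▷ Y₂ = mk g₁ ▷ X₂ ≫ Z₁ ◁ mk f₂ :=
      Quotient.sound (Rel.exchange g₁ f₂)
    rw [h₁, h₂, Category.assoc, reassoc_of% h₃, Category.assoc]
  whiskerLeft_id X Y := Quotient.sound (Rel.whiskerLeft_id X Y)
  id_whiskerRight X Y := Quotient.sound (Rel.id_whiskerRight X Y)
  associator_naturality f₁ f₂ f₃ :=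
    Quotient.inductionOn₃ f₁ f₂ f₃ fun g₁ g₂ g₃ => Quotient.sound (Rel.assoc_natural g₁ g₂ g₃)
  leftUnitor_naturality f := Quotient.inductionOn f fun g => Quotient.sound (Rel.leftUnitor_natural g)
  rightUnitor_naturality f := Quotient.inductionOn f fun g => Quotient.sound (Rel.rightUnitor_natural g)
  pentagon W X Y Z := Quotient.sound (Rel.pentagon W X Y Z)
  triangle X Y := Quotient.sound (Rel.triangle X Y)

instance symmetric : SymmetricCategory (Obj A) where
  braiding X Y := isoMk (Pre.braiding X Y)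
  braiding_naturality_right X _ _ f :=
    Quotient.inductionOn f fun g => Quotient.sound (Rel.braiding_natural_right X g)
  braiding_naturality_left f Z :=
    Quotient.inductionOn f fun g => Quotient.sound (Rel.braiding_natural_left g Z)
  hexagon_forward X Y Z := Quotient.sound (Rel.hexagon_forward X Y Z)
  hexagon_reverse X Y Z := Quotient.sound (Rel.hexagon_reverse X Y Z)
  symmetry X Y := Quotient.sound (Rel.symmetry X Y)

/-- The functor from `A`. -/
def incl : A ⥤ Obj A where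
  obj := Obj.gen
  map f := mk (Pre.map f)
  map_id a := Quotient.sound (Rel.map_id a)
  map_comp f g := Quotient.sound (Rel.map_comp f g)

instance inclLaxBraided : (incl (A := A)).LaxBraided where
  ε := mk Pre.ε
  μ a b := mk (Pre.μ a b)
  μ_natural_left f c := Quotient.sound (Rel.μ_natural_left f c)
  μ_natural_right c f := Quotient.sound (Rel.μ_natural_right c f)
  associativity a b c := Quotient.sound (Rel.associativity a b c)
  left_unitality a := Quotient.sound (Rel.left_unitality a)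
  right_unitality a := Quotient.sound (Rel.right_unitality a)
  braided a b := Quotient.sound (Rel.μ_braided a b)

/-- A formal inverse is an inverse. -/
def counitIso (X : Obj A) : X ⊗ Obj.inv X ≅ 𝟙_ (Obj A) := isoMk (Pre.counit X)

lemma isEquivalence_tensor (X : Obj A) :
    (tensorLeft X).IsEquivalence ∧ (tensorRight X).IsEquivalence := by
  have h : (tensorLeft X).IsEquivalence :=
    (CategoryTheory.Equivalence.mk (tensorLeft X) (tensorLeft (Obj.inv X))
      ((leftUnitorNatIso (Obj A)).symm ≪≫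
        (tensoringLeft (Obj A)).mapIso ((β_ _ _) ≪≫ counitIso X).symm ≪≫
        tensorLeftTensor (Obj.inv X) X)
      ((tensorLeftTensor X (Obj.inv X)).symm ≪≫ (tensoringLeft (Obj A)).mapIso (counitIso X) ≪≫
        leftUnitorNatIso (Obj A))).isEquivalence_functor
  exact ⟨h, Functor.isEquivalence_of_iso (BraidedCategory.tensorLeftIsoTensorRight X)⟩

end Groth.Agent.Picardification
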