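import Mathlib
import Groth.Agent.Picardification.Basic

/-!
# The universal property of the free Picard category
-/

set_option autoImplicit false
universe v u v' u'

open CategoryTheory MonoidalCategory Functor.LaxMonoidal

namespace Groth.Agent.Picardification

variable {A : Type u} [Category.{v} A] [MonoidalCategory A] [SymmetricCategory A]
  {P : Type u'} [Category.{v'} P] [MonoidalCategory P] [SymmetricCategory P] [IsGroupoid P]

section Exists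

variable (I : P → P) (e : ∀ X : P, X ⊗ I X ≅ 𝟙_ P) (Φ : A ⥤ P) [Φ.LaxBraided]

/-- Value of the extension on objects. -/
def liftObj : Obj A → P
  | .unit => 𝟙_ P
  | .gen a => Φ.obj a
  | .tensor X Y => liftObj X ⊗ liftObj Y
  | .inv X => I (liftObj X)

/-- Value of the extension on formal morphisms. -/
noncomputable def liftHom : ∀ {X Y : Obj A}, Pre X Y → (liftObj I Φ X ⟶ liftObj I Φ Y)
  | _, _, .id _ => 𝟙 _
  | _, _, .comp f g => liftHom f ≫ liftHom g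
  | _, _, .symm f => inv (liftHom f)
  | _, _, .whiskerLeft X f => liftObj I Φ X ◁ liftHom f
  | _, _, .whiskerRight f Z => liftHom f ▷ liftObj I Φ Z
  | _, _, .assoc _ _ _ => (α_ _ _ _).hom
  | _, _, .leftUnitor _ => (λ_ _).hom
  | _, _, .rightUnitor _ => (ρ_ _).hom
  | _, _, .braiding _ _ => (β_ _ _).hom
  | _, _, .counit _ => (e _).hom
  | _, _, .map f => Φ.map f
  | _, _, .ε => ε Φ
  | _, _, .μ a b => μ Φ a b

lemma liftHom_eq_of_rel {X Y : Obj A} {f g : Pre X Y} (h : Rel f g) :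
    liftHom I e Φ f = liftHom I e Φ g := by
  induction h with
  | refl f => rfl
  | symm' _ ih => exact ih.symm
  | trans _ _ ih ih' => exact ih.trans ih'
  | comp_congr _ _ ih ih' => simp only [liftHom, ih, ih']
  | symm_congr _ ih => simp only [liftHom, ih]
  | whiskerLeft_congr X _ ih => exact congrArg (liftObj I Φ X ◁ ·) ih
  | whiskerRight_congr Z _ ih => exact congrArg (· ▷ liftObj I Φ Z) ih
  | exchange f g => exact whisker_exchange (liftHom I e Φ f) (liftHom I e Φ g)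
  | assoc_natural f₁ f₂ f₃ =>
    simp [liftHom, liftObj]
  | hexagon_forward X Y Z => exact BraidedCategory.hexagon_forward _ _ _
  | hexagon_reverse X Y Z => simp [liftHom, liftObj]
  | μ_natural_left f c => exact μ_natural_left Φ f c
  | μ_natural_right c f => exact μ_natural_right Φ c f
  | associativity a b c => exact associativity Φ a b c
  | left_unitality a => exact left_unitality Φ a
  | right_unitality a => exact right_unitality Φ a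
  | μ_braided a b => exact Functor.LaxBraided.braided (F := Φ) a b
  | _ => simp [liftHom, liftObj]

/-- The extension. -/
noncomputable def lift : Obj A ⥤ P where
  obj := liftObj I Φ
  map f := Quotient.lift (liftHom I e Φ) (fun _ _ h => liftHom_eq_of_rel I e Φ h) f
  map_id _ := rfl
  map_comp f g := Quotient.inductionOn₂ f g fun _ _ => rfl

@[simp]
lemma lift_map_mk {X Y : Obj A} (f : Pre X Y) : (lift I e Φ).map (mk f) = liftHom I e Φ f := rfl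

noncomputable instance liftLaxBraided : (lift I e Φ).LaxBraided where
  ε := 𝟙 _
  μ X Y := 𝟙 _
  μ_natural_left f Z := by
    obtain ⟨g, rfl⟩ := mk_surjective f
    rw [← mk_whiskerRight]
    exact (Category.comp_id _).trans (Category.id_comp _).symm
  μ_natural_right Z f := by
    obtain ⟨g, rfl⟩ := mk_surjective f
    rw [← mk_whiskerLeft]
    exact (Category.comp_id _).trans (Category.id_comp _).symm
  associativity X Y Z := by
    change (𝟙 _ : liftObj I Φ X ⊗ liftObj I Φ Y ⟶ _) ▷ liftObj I Φ Z ≫ 𝟙 _ ≫ (α_ _ _ _).hom =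
      (α_ _ _ _).hom ≫ liftObj I Φ X ◁ 𝟙 _ ≫ 𝟙 _
    simp
  left_unitality X := by
    change (λ_ (liftObj I Φ X)).hom = (𝟙 _ : 𝟙_ P ⟶ _) ▷ liftObj I Φ X ≫ 𝟙 _ ≫ (λ_ _).hom
    simp
  right_unitality X := by
    change (ρ_ (liftObj I Φ X)).hom = liftObj I Φ X ◁ (𝟙 _ : 𝟙_ P ⟶ _) ≫ 𝟙 _ ≫ (ρ_ _).hom
    simp
  braided X Y := (Category.id_comp _).trans (Category.comp_id _).symm

/-- The extension restricts to the given functor. -/
noncomputable def inclLiftIso : incl ⋙ lift I e Φ ≅ Φ :=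
  NatIso.ofComponents (fun a => Iso.refl (Φ.obj a)) fun _ =>
    (Category.comp_id _).trans (Category.id_comp _).symm

lemma inclLiftIso_isMonoidal : NatTrans.IsMonoidal (inclLiftIso I e Φ).hom where
  unit := by
    change (𝟙 _ ≫ ε Φ) ≫ 𝟙 _ = ε Φ
    simp
  tensor a b := by
    change (𝟙 _ ≫ μ Φ a b) ≫ 𝟙 _ = (𝟙 (Φ.obj a) ⊗ₘ 𝟙 (Φ.obj b)) ≫ μ Φ a b
    simp

end Exists

section Unique

variable (Ψ Ψ' : Obj A ⥤ P) [Ψ.LaxBraided] [Ψ'.LaxBraided]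
  (hP : ∀ X : P, (tensorLeft X).IsEquivalence) (τ : incl ⋙ Ψ ⟶ incl ⋙ Ψ')

/-- The extended transformation. -/
noncomputable def extApp : ∀ X : Obj A, Ψ.obj X ⟶ Ψ'.obj X
  | .unit => inv (ε Ψ) ≫ ε Ψ'
  | .gen a => τ.app a
  | .tensor X Y => inv (μ Ψ X Y) ≫ (extApp X ⊗ₘ extApp Y) ≫ μ Ψ' X Y
  | .inv X =>
    haveI := hP (Ψ'.obj X)
    (tensorLeft (Ψ'.obj X)).preimage
      (inv (extApp X ▷ Ψ.obj (.inv X)) ≫ μ Ψ X (.inv X) ≫ Ψ.map (mk (Pre.counit X)) ≫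
        (inv (ε Ψ) ≫ ε Ψ') ≫ inv (μ Ψ' X (.inv X) ≫ Ψ'.map (mk (Pre.counit X))))

lemma μ_comp_extApp (X Y : Obj A) :
    μ Ψ X Y ≫ extApp Ψ Ψ' hP τ (X ⊗ Y) = (extApp Ψ Ψ' hP τ X ⊗ₘ extApp Ψ Ψ' hP τ Y) ≫ μ Ψ' X Y := by
  change μ Ψ X Y ≫ extApp Ψ Ψ' hP τ (.tensor X Y) = _
  rw [extApp, IsIso.hom_inv_id_assoc]

lemma whiskerLeft_extApp_inv (X : Obj A) :
    Ψ'.obj X ◁ extApp Ψ Ψ' hP τ (.inv X) =
      inv (extApp Ψ Ψ' hP τ X ▷ Ψ.obj (.inv X)) ≫ μ Ψ X (.inv X) ≫ Ψ.map (mk (Pre.counit X)) ≫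
        (inv (ε Ψ) ≫ ε Ψ') ≫ inv (μ Ψ' X (.inv X) ≫ Ψ'.map (mk (Pre.counit X))) := by
  have := hP (Ψ'.obj X)
  rw [extApp]
  exact (tensorLeft (Ψ'.obj X)).map_preimage _

lemma extApp_natural [NatTrans.IsMonoidal τ] {X Y : Obj A} (g : Pre X Y) :
    Ψ.map (mk g) ≫ extApp Ψ Ψ' hP τ Y = extApp Ψ Ψ' hP τ X ≫ Ψ'.map (mk g) := by
  induction g with
  | id X => simp
  | comp f g hf hg => simp [hg, reassoc_of% hf]
  | symm f hf =>
    have h : ∀ Φ : Obj A ⥤ P, Φ.map (mk (Pre.symm f)) = inv (Φ.map (mk f)) := fun Φ =>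
      IsIso.eq_inv_of_hom_inv_id (by
        rw [← Φ.map_comp, show mk f ≫ mk (Pre.symm f) = 𝟙 _ from (isoMk f).hom_inv_id, Φ.map_id])
    rw [h, h, IsIso.eq_comp_inv, Category.assoc, IsIso.inv_comp_eq]
    exact hf.symm
  | @whiskerLeft X Y Z f hf =>
    rw [← cancel_epi (μ Ψ X Y), mk_whiskerLeft, ← μ_natural_right_assoc]
    change Ψ.obj X ◁ Ψ.map (mk f) ≫ μ Ψ X Z ≫ extApp Ψ Ψ' hP τ (X ⊗ Z) =
      μ Ψ X Y ≫ extApp Ψ Ψ' hP τ (X ⊗ Y) ≫ Ψ'.map (X ◁ mk f)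
    rw [μ_comp_extApp, reassoc_of% μ_comp_extApp Ψ Ψ' hP τ X Y, ← μ_natural_right,
      ← id_tensorHom, ← id_tensorHom, tensorHom_comp_tensorHom_assoc, tensorHom_comp_tensorHom_assoc,
      hf, Category.id_comp, Category.comp_id]
  | @whiskerRight X Y f Z hf =>
    rw [← cancel_epi (μ Ψ X Z), mk_whiskerRight, ← μ_natural_left_assoc]
    change Ψ.map (mk f) ▷ Ψ.obj Z ≫ μ Ψ Y Z ≫ extApp Ψ Ψ' hP τ (Y ⊗ Z) =
      μ Ψ X Z ≫ extApp Ψ Ψ' hP τ (X ⊗ Z) ≫ Ψ'.map (mk f ▷ Z)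
    rw [μ_comp_extApp, reassoc_of% μ_comp_extApp Ψ Ψ' hP τ X Z, ← μ_natural_left,
      ← tensorHom_id, ← tensorHom_id, tensorHom_comp_tensorHom_assoc, tensorHom_comp_tensorHom_assoc,
      hf, Category.id_comp, Category.comp_id]
  | assoc X Y Z =>
    change Ψ.map (α_ X Y Z).hom ≫ extApp Ψ Ψ' hP τ (X ⊗ Y ⊗ Z) =
      extApp Ψ Ψ' hP τ ((X ⊗ Y) ⊗ Z) ≫ Ψ'.map (α_ X Y Z).hom
    rw [← cancel_epi (μ Ψ (X ⊗ Y) Z), ← cancel_epi (μ Ψ X Y ▷ Ψ.obj Z),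
      associativity_assoc, μ_comp_extApp, reassoc_of% μ_comp_extApp Ψ Ψ' hP τ (X ⊗ Y) Z,
      ← id_tensorHom, tensorHom_comp_tensorHom_assoc, Category.id_comp, μ_comp_extApp,
      ← tensorHom_id (μ Ψ X Y), tensorHom_comp_tensorHom_assoc, μ_comp_extApp, Category.id_comp]
    nth_rw 1 [← Category.comp_id (extApp Ψ Ψ' hP τ X)]
    nth_rw 2 [← Category.comp_id (extApp Ψ Ψ' hP τ Z)]
    rw [← tensorHom_comp_tensorHom, ← tensorHom_comp_tensorHom, Category.assoc, Category.assoc,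
      id_tensorHom, tensorHom_id, associativity, associator_naturality_assoc]
  | leftUnitor X =>
    change Ψ.map (λ_ X).hom ≫ extApp Ψ Ψ' hP τ X =
      extApp Ψ Ψ' hP τ (𝟙_ (Obj A) ⊗ X) ≫ Ψ'.map (λ_ X).hom
    rw [← cancel_epi (μ Ψ (𝟙_ (Obj A)) X), ← cancel_epi (ε Ψ ▷ Ψ.obj X),
      reassoc_of% μ_comp_extApp Ψ Ψ' hP τ (𝟙_ (Obj A)) X]
    slice_lhs 1 3 => rw [← left_unitality]
    rw [← leftUnitor_naturality, ← tensorHom_id, tensorHom_comp_tensorHom_assoc, Category.id_comp]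
    change _ = (ε Ψ ≫ inv (ε Ψ) ≫ ε Ψ' ⊗ₘ _) ≫ _
    rw [IsIso.hom_inv_id_assoc, MonoidalCategory.tensorHom_def', Category.assoc, ← left_unitality]
  | rightUnitor X =>
    change Ψ.map (ρ_ X).hom ≫ extApp Ψ Ψ' hP τ X =
      extApp Ψ Ψ' hP τ (X ⊗ 𝟙_ (Obj A)) ≫ Ψ'.map (ρ_ X).hom
    rw [← cancel_epi (μ Ψ X (𝟙_ (Obj A))), ← cancel_epi (Ψ.obj X ◁ ε Ψ),
      reassoc_of% μ_comp_extApp Ψ Ψ' hP τ X (𝟙_ (Obj A))]
    slice_lhs 1 3 => rw [← right_unitality]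
    rw [← rightUnitor_naturality, ← id_tensorHom, tensorHom_comp_tensorHom_assoc, Category.id_comp]
    change _ = (_ ⊗ₘ ε Ψ ≫ inv (ε Ψ) ≫ ε Ψ') ≫ _
    rw [IsIso.hom_inv_id_assoc, MonoidalCategory.tensorHom_def, Category.assoc, ← right_unitality]
  | braiding X Y =>
    change Ψ.map (β_ X Y).hom ≫ extApp Ψ Ψ' hP τ (Y ⊗ X) =
      extApp Ψ Ψ' hP τ (X ⊗ Y) ≫ Ψ'.map (β_ X Y).hom
    rw [← cancel_epi (μ Ψ X Y), Functor.LaxBraided.braided_assoc, μ_comp_extApp,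
      reassoc_of% μ_comp_extApp Ψ Ψ' hP τ X Y, Functor.LaxBraided.braided,
      BraidedCategory.braiding_naturality_assoc]
  | counit X =>
    rw [← cancel_epi (μ Ψ X (.inv X))]
    change μ Ψ X (.inv X) ≫ Ψ.map (mk (Pre.counit X)) ≫ extApp Ψ Ψ' hP τ .unit =
      μ Ψ X (.inv X) ≫ extApp Ψ Ψ' hP τ (X ⊗ .inv X) ≫ Ψ'.map (mk (Pre.counit X))
    rw [reassoc_of% μ_comp_extApp Ψ Ψ' hP τ X (.inv X), MonoidalCategory.tensorHom_def, Category.assoc,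
      whiskerLeft_extApp_inv]
    simp [extApp]
  | map f => exact τ.naturality f
  | ε =>
    have h := NatTrans.IsMonoidal.unit (τ := τ)
    change (ε Ψ ≫ Ψ.map (mk Pre.ε)) ≫ τ.app (𝟙_ A) = ε Ψ' ≫ Ψ'.map (mk Pre.ε) at h
    rw [← cancel_epi (ε Ψ)]
    change ε Ψ ≫ Ψ.map (mk Pre.ε) ≫ τ.app (𝟙_ A) = ε Ψ ≫ (inv (ε Ψ) ≫ ε Ψ') ≫ _
    refine ((Category.assoc _ _ _).symm.trans h).trans ?_
    exact (congrArg (· ≫ Ψ'.map (mk Pre.ε)) (IsIso.hom_inv_id_assoc (ε Ψ) (ε Ψ')).symm).trans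
      (Category.assoc _ _ _)
  | μ a b =>
    have h := NatTrans.IsMonoidal.tensor (τ := τ) a b
    change (μ Ψ (.gen a) (.gen b) ≫ Ψ.map (mk (Pre.μ a b))) ≫ τ.app (a ⊗ b) =
      (τ.app a ⊗ₘ τ.app b) ≫ μ Ψ' (.gen a) (.gen b) ≫ Ψ'.map (mk (Pre.μ a b)) at h
    rw [← cancel_epi (μ Ψ (.gen a) (.gen b))]
    change μ Ψ (.gen a) (.gen b) ≫ Ψ.map (mk (Pre.μ a b)) ≫ τ.app (a ⊗ b) =
      μ Ψ (.gen a) (.gen b) ≫ extApp Ψ Ψ' hP τ (Obj.gen a ⊗ Obj.gen b) ≫ _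
    refine ((Category.assoc _ _ _).symm.trans h).trans ?_
    exact ((Category.assoc _ _ _).symm.trans
      (congrArg (· ≫ Ψ'.map (mk (Pre.μ a b))) (μ_comp_extApp Ψ Ψ' hP τ (.gen a) (.gen b)).symm)).trans
      (Category.assoc _ _ _)

include hP in
theorem existsUnique_ext [hτ : NatTrans.IsMonoidal τ] :
    ∃! θ : Ψ ⟶ Ψ', NatTrans.IsMonoidal θ ∧ Functor.whiskerLeft incl θ = τ := by
  refine ⟨⟨extApp Ψ Ψ' hP τ, fun X Y f => ?_⟩, ⟨⟨?_, fun X Y => μ_comp_extApp Ψ Ψ' hP τ X Y⟩, ?_⟩, ?_⟩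
  · obtain ⟨g, rfl⟩ := mk_surjective f
    exact extApp_natural Ψ Ψ' hP τ g
  · change ε Ψ ≫ inv (ε Ψ) ≫ ε Ψ' = ε Ψ'
    simp
  · ext a
    rfl
  · rintro θ ⟨hθ, hw⟩
    ext X
    change θ.app X = extApp Ψ Ψ' hP τ X
    induction X with
    | unit =>
      have := NatTrans.IsMonoidal.unit (τ := θ)
      rw [extApp, IsIso.eq_inv_comp]
      exact this
    | gen a => exact congr_app hw a
    | tensor X Y hX hY =>
      rw [extApp, IsIso.eq_inv_comp, ← hX, ← hY]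
      exact NatTrans.IsMonoidal.tensor (τ := θ) X Y
    | inv X hX =>
      have := hP (Ψ'.obj X)
      apply (tensorLeft (Ψ'.obj X)).map_injective
      change Ψ'.obj X ◁ θ.app (.inv X) = Ψ'.obj X ◁ extApp Ψ Ψ' hP τ (.inv X)
      have hu : θ.app .unit = inv (ε Ψ) ≫ ε Ψ' := by
        rw [IsIso.eq_inv_comp]
        exact NatTrans.IsMonoidal.unit (τ := θ)
      rw [whiskerLeft_extApp_inv, ← hX, ← hu, IsIso.eq_inv_comp, ← MonoidalCategory.tensorHom_def]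
      simp only [← Category.assoc]
      rw [IsIso.eq_comp_inv, ← Category.assoc, ← NatTrans.IsMonoidal.tensor (τ := θ) X (.inv X),
        Category.assoc, Category.assoc]
      exact congrArg (μ Ψ X (.inv X) ≫ ·) (θ.naturality (mk (Pre.counit X))).symm

end Unique

theorem exists_picardification_aux (hP : ∀ X : P, (tensorLeft X).IsEquivalence) :
    (∀ (Φ : A ⥤ P) [Φ.LaxBraided], ∃ (Ψ : Obj A ⥤ P) (_ : Ψ.LaxBraided) (η : incl ⋙ Ψ ≅ Φ),
        NatTrans.IsMonoidal η.hom) ∧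
    (∀ (Ψ Ψ' : Obj A ⥤ P) [Ψ.LaxBraided] [Ψ'.LaxBraided] (τ : incl ⋙ Ψ ⟶ incl ⋙ Ψ'),
        NatTrans.IsMonoidal τ →
          ∃! θ : Ψ ⟶ Ψ', NatTrans.IsMonoidal θ ∧ Functor.whiskerLeft incl θ = τ) := by
  refine ⟨fun Φ _ => ?_, fun Ψ Ψ' _ _ τ _ => existsUnique_ext Ψ Ψ' hP τ⟩
  have h : ∀ X : P, ∃ Y : P, Nonempty (X ⊗ Y ≅ 𝟙_ P) := fun X =>
    haveI := hP X
    ⟨(tensorLeft X).objPreimage (𝟙_ P), ⟨(tensorLeft X).objObjPreimageIso (𝟙_ P)⟩⟩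
  choose I e using h
  exact ⟨lift I (fun X => (e X).some) Φ, inferInstance, inclLiftIso I _ Φ, inclLiftIso_isMonoidal I _ Φ⟩

end Groth.Agent.Picardification
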